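import Mathlib

/-! Automorphisms of matrix algebras and invertible modules. -/

set_option autoImplicit false

open TensorProduct

namespace Groth.Agent.DivAlgT.MatAut

universe u

variable {R : Type u} [CommRing R]

theorem invertible_of_comm (N : Type u) [AddCommGroup N] [Module R N] {ι : Type} [Fintype ι]
    (g : ι → Module.Dual R N) (x : ι → N) (h1 : ∑ i, g i (x i) = 1)
    (hcomm : ∀ (f : Module.Dual R N) (a b : N), f a • b = f b • a) : Module.Invertible R N := by
  refine ⟨⟨(injective_iff_map_eq_zero _).mpr fun t ht => ?_, fun r => ?_⟩⟩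
  · have key : ∀ t : Module.Dual R N ⊗[R] N, t = contractLeft R N t • ∑ i, g i ⊗ₜ[R] x i := by
      intro t
      induction t using TensorProduct.induction_on with
      | zero => simp
      | add a b ha hb => rw [map_add, add_smul, ← ha, ← hb]
      | tmul f a =>
        rw [contractLeft_apply, Finset.smul_sum]
        have hfg : ∀ i, g i a • f = f a • g i := fun i => LinearMap.ext fun y => by
          have := congrArg f (hcomm (g i) y a)
          simp only [map_smul, smul_eq_mul, LinearMap.smul_apply] at this ⊢
          rw [← this, mul_comm]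
        calc f ⊗ₜ[R] a = f ⊗ₜ[R] ((∑ i, g i (x i)) • a) := by rw [h1, one_smul]
          _ = ∑ i, f a • g i ⊗ₜ[R] x i := by
            rw [Finset.sum_smul, tmul_sum]
            refine Finset.sum_congr rfl fun i _ => ?_
            rw [hcomm (g i) (x i) a, tmul_smul, smul_tmul', hfg i, ← smul_tmul']
    rw [key t, ht, zero_smul]
  · exact ⟨r • ∑ i, g i ⊗ₜ[R] x i, by simp [map_sum, contractLeft_apply, h1]⟩

variable {n : ℕ}

/-- every automorphism is inner up to an invertible module `N` with `N^n ≅ R^n`; so if these are free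
it is inner -/
theorem exists_inner (hn : 1 ≤ n) (φ : Matrix (Fin n) (Fin n) R ≃ₐ[R] Matrix (Fin n) (Fin n) R)
    (H : ∀ (N : Type u) [AddCommGroup N] [Module R N] [Module.Invertible R N],
      Nonempty ((Fin n → N) ≃ₗ[R] (Fin n → R)) → Module.Free R N) :
    ∃ P : GL (Fin n) R, ∀ A : Matrix (Fin n) (Fin n) R, φ A = P.1 * A * (P⁻¹).1 := by
  classical
  let z : Fin n := ⟨0, hn⟩
  let E : Fin n → Fin n → Matrix (Fin n) (Fin n) R := fun i j => φ (Matrix.single i j 1)
  have hEE : ∀ i j k l, E i j * E k l = if j = k then E i l else 0 := by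
    intro i j k l
    rw [← map_mul]
    split_ifs with h
    · subst h; simp [E]
    · simp [Matrix.single_mul_single_of_ne _ _ _ _ h]
  have hsum : ∑ i, E i i = 1 := by
    rw [← map_sum, show ∑ i : Fin n, Matrix.single i i (1 : R) = 1 from ?_, map_one]
    ext a b
    simp [Matrix.sum_apply, Matrix.single_apply, Matrix.one_apply, ite_and]
  let P := E z z
  have hPAP : ∀ A, ∃ c : R, P * A * P = c • P := by
    intro A
    obtain ⟨B, rfl⟩ := φ.surjective A
    refine ⟨B z z, ?_⟩
    rw [← map_mul, ← map_mul, ← map_smul]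
    congr 1
    rw [Matrix.single_mul_mul_single]
    simp
  let N : Submodule R (Fin n → R) := LinearMap.range (Matrix.toLin' P)
  have hPP : P * P = P := by simp [P, hEE]
  have hPx : ∀ x : N, P.mulVec x.1 = x.1 := by
    rintro ⟨_, y, rfl⟩
    simp [Matrix.mulVec_mulVec, hPP]
  have hmem : ∀ (i : Fin n) (w : Fin n → R), (E z i).mulVec w ∈ N := fun i w =>
    ⟨(E z i).mulVec w, by simp [P, Matrix.mulVec_mulVec, hEE]⟩
  let Φ : (Fin n → N) ≃ₗ[R] (Fin n → R) :=
    { toFun := fun v => ∑ i, (E i z).mulVec (v i).1
      invFun := fun w i => ⟨(E z i).mulVec w, hmem i w⟩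
      map_add' := fun v w => by simp [Matrix.mulVec_add, Finset.sum_add_distrib]
      map_smul' := fun r v => by simp [Matrix.mulVec_smul, Finset.smul_sum]
      left_inv := fun v => funext fun j => Subtype.ext (by
        simp only [Matrix.mulVec_sum, Matrix.mulVec_mulVec, hEE]
        rw [Finset.sum_eq_single j (fun b _ hb => by simp [Ne.symm hb]) (by simp), if_pos rfl]
        exact hPx (v j))
      right_inv := fun w => by simp [Matrix.mulVec_mulVec, hEE, ← Matrix.sum_mulVec, hsum] }
  have hcomm : ∀ (f : Module.Dual R N) (a b : N), f a • b = f b • a := by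
    intro f a b
    rw [← sub_eq_zero]
    by_contra hne
    obtain ⟨m, hm, hle⟩ := Ideal.exists_le_maximal (LinearMap.ker (LinearMap.toSpanSingleton R N (f a • b - f b • a)))
      (fun h => hne (by simpa using LinearMap.mem_ker.mp (h.symm ▸ Submodule.mem_top : (1 : R) ∈ LinearMap.ker (LinearMap.toSpanSingleton R N (f a • b - f b • a)))))
    obtain ⟨p, q, hu⟩ : ∃ p q, P p q ∉ m := by
      by_contra hall
      push Not at hall
      have h1 : (1 : Matrix (Fin n) (Fin n) R) z z ∈ m := by
        rw [← hsum, Matrix.sum_apply]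
        refine sum_mem fun i _ => ?_
        rw [show E i i = E i z * P * E z i by simp [P, hEE], Matrix.mul_apply]
        exact sum_mem fun l _ => m.mul_mem_right _ (by
          rw [Matrix.mul_apply]; exact sum_mem fun l' _ => m.mul_mem_left _ (hall _ _))
      exact hm.ne_top ((Ideal.eq_top_iff_one m).mpr (by simpa using h1))
    obtain ⟨c, hc⟩ := hPAP (Matrix.single q p 1)
    have hent : ∀ k j, P k q * P p j = c * P k j := fun k j => by
      have := congrFun (congrFun hc k) j
      simpa [Matrix.mul_apply, Matrix.single_apply, ite_and] using this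
    let col : N := ⟨(fun k => P k q), ⟨Pi.single q 1, by ext k; simp⟩⟩
    let s : N → R := fun x => P.mulVec x.1 p
    -- `c • x` is a multiple of one column
    have hcx : ∀ x : N, c • x = s x • col := fun x => Subtype.ext (funext fun k => by
      conv_lhs => rw [Submodule.coe_smul, Pi.smul_apply, ← hPx x]
      simp only [col, s, Matrix.mulVec, dotProduct, smul_eq_mul, Finset.mul_sum,
        Submodule.coe_smul, Pi.smul_apply, Finset.sum_mul]
      refine Finset.sum_congr rfl fun j _ => ?_
      rw [← mul_assoc, ← hent k j]; ring)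
    have hcm : c ∉ m := fun h => hu (by
      have h2 : P p q * P p q ∈ m := by rw [hent]; exact m.mul_mem_right _ h
      exact (hm.isPrime.mem_or_mem h2).elim id id)
    have key : (c * c) • (f a • b - f b • a) = 0 := by
      have h1 : c * f a = s a * f col := by
        have := congrArg f (hcx a); simpa using this
      have h2 : c * f b = s b * f col := by
        have := congrArg f (hcx b); simpa using this
      have e1 : (c * c) • (f a • b) = (c * f a) • (c • b) := by rw [smul_smul, smul_smul]; ring_nf
      have e2 : (c * c) • (f b • a) = (c * f b) • (c • a) := by rw [smul_smul, smul_smul]; ring_nf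
      rw [smul_sub, e1, e2, h1, h2, hcx a, hcx b, smul_smul, smul_smul, sub_eq_zero]
      ring_nf
    exact (fun h => (hm.isPrime.mem_or_mem h).elim hcm hcm) (hle (LinearMap.mem_ker.mpr key))
  have : Module.Invertible R N :=
    invertible_of_comm N (fun i => LinearMap.proj z ∘ₗ Φ.toLinearMap ∘ₗ LinearMap.single R (fun _ => N) i)
      (fun i => Φ.symm (Pi.single z 1) i) (by
        simp only [LinearMap.comp_apply, LinearMap.proj_apply, LinearEquiv.coe_coe, LinearMap.coe_single]
        rw [← Finset.sum_apply, ← map_sum, Finset.univ_sum_single, Φ.apply_symm_apply, Pi.single_eq_same])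
      hcomm
  obtain ⟨e⟩ := Module.Invertible.free_iff_linearEquiv.mp (H N ⟨Φ⟩)
  let G : (Fin n → R) ≃ₗ[R] (Fin n → R) := (LinearEquiv.piCongrRight fun _ => e.symm) ≪≫ₗ Φ
  let Q : Matrix (Fin n) (Fin n) R := LinearMap.toMatrix' G.toLinearMap
  let Qi : Matrix (Fin n) (Fin n) R := LinearMap.toMatrix' G.symm.toLinearMap
  have h1 : Q * Qi = 1 := by rw [← LinearMap.toMatrix'_comp]; simp
  have h2 : Qi * Q = 1 := by rw [← LinearMap.toMatrix'_comp]; simp
  refine ⟨⟨Q, Qi, h1, h2⟩, fun A => ?_⟩
  have hQ : ∀ A, φ A * Q = Q * A := by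
    intro A
    induction A using Matrix.induction_on' with
    | h_zero => simp
    | h_add A B hA hB => rw [map_add, Matrix.add_mul, hA, hB, Matrix.mul_add]
    | h_std_basis a b r =>
      rw [show Matrix.single a b r = r • Matrix.single a b (1 : R) by simp, map_smul,
        Matrix.smul_mul, Matrix.mul_smul]
      congr 1
      refine Matrix.ext_of_mulVec_single fun j => ?_
      rw [← Matrix.mulVec_mulVec, ← Matrix.mulVec_mulVec]
      simp only [Q, LinearMap.toMatrix'_mulVec]
      rw [Matrix.single_mulVec]
      show (E a b).mulVec (G (Pi.single j 1)) = G _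
      have hG : ∀ (i : Fin n) (t : R), G (Pi.single i t) = (E i z).mulVec (e.symm t).1 := by
        intro i t
        simp only [G, LinearEquiv.trans_apply]
        change ∑ k, (E k z).mulVec (e.symm ((Pi.single i t : Fin n → R) k)).1 = _
        rw [Finset.sum_eq_single i (fun k _ hk => by simp [hk]) (by simp), Pi.single_eq_same]
      rw [hG j]
      by_cases hbj : b = j
      · subst hbj
        rw [Matrix.mulVec_mulVec, hEE, if_pos rfl, ← hG a]
        congr 1
        ext i; simp [Pi.single_apply, Function.update_apply]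
      · rw [Matrix.mulVec_mulVec, hEE, if_neg hbj, Matrix.zero_mulVec, eq_comm]
        convert map_zero G using 2
        ext i; simp [Pi.single_apply, hbj, Function.update_apply]
  show φ A = Q * A * Qi
  rw [← hQ A, Matrix.mul_assoc, h1, Matrix.mul_one]

/-- conversely: if all automorphisms are inner, `N^n ≅ R^n` forces `N` free -/
theorem free_of_inner (hn : 1 ≤ n)
    (H : ∀ φ : Matrix (Fin n) (Fin n) R ≃ₐ[R] Matrix (Fin n) (Fin n) R,
      ∃ P : GL (Fin n) R, ∀ A : Matrix (Fin n) (Fin n) R, φ A = P.1 * A * (P⁻¹).1)
    (N : Type u) [AddCommGroup N] [Module R N] [Module.Invertible R N]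
    (e : (Fin n → N) ≃ₗ[R] (Fin n → R)) : Module.Free R N := by
  classical
  let act : Matrix (Fin n) (Fin n) R →ₐ[R] Module.End R (Fin n → N) := AlgHom.ofLinearMap
    { toFun := fun A => LinearMap.pi fun i => ∑ j, A i j • LinearMap.proj j
      map_add' := fun A B => by ext v i; simp [add_smul, Finset.sum_add_distrib]
      map_smul' := fun r A => by ext v i; simp [Finset.smul_sum, smul_smul] }
    (by ext v i; simp [Matrix.one_apply, Pi.single_apply])
    (fun A B => LinearMap.ext fun v => funext fun i => by
      simp [Matrix.mul_apply, Finset.smul_sum, Finset.sum_smul, smul_smul]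
      exact Finset.sum_comm)
  have hact : ∀ A (v : Fin n → N) i, act A v i = ∑ j, A i j • v j := fun A v i => by
    simp [act, LinearMap.sum_apply]
  let ψ : Matrix (Fin n) (Fin n) R →ₐ[R] Matrix (Fin n) (Fin n) R :=
    (LinearMap.toMatrixAlgEquiv' (R := R) (n := Fin n)).toAlgHom.comp
      ((LinearEquiv.conjAlgEquiv R e).toAlgHom.comp act)
  have hinj : Function.Injective act := by
    intro A B h
    ext i j
    apply (Module.Invertible.toModuleEnd_bijective R N).1
    ext x
    have := congrFun (LinearMap.congr_fun h (Pi.single j x)) i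
    simpa [hact, Pi.single_apply] using this
  have hsurj : Function.Surjective act := by
    intro T
    choose c hc using fun i j => (Module.Invertible.toModuleEnd_bijective R N).2
      (LinearMap.proj i ∘ₗ T ∘ₗ LinearMap.single R (fun _ => N) j)
    refine ⟨Matrix.of c, LinearMap.pi_ext fun j x => funext fun i => ?_⟩
    have := LinearMap.congr_fun (hc i j) x
    simpa [hact, Pi.single_apply] using this
  have hψ : Function.Bijective ψ := (LinearMap.toMatrixAlgEquiv' (R := R) (n := Fin n)).bijective.comp
    ((LinearEquiv.conjAlgEquiv R e).bijective.comp ⟨hinj, hsurj⟩)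
  obtain ⟨P, hP⟩ := H (AlgEquiv.ofBijective ψ hψ)
  let G : (Fin n → N) ≃ₗ[R] (Fin n → R) := e ≪≫ₗ
    LinearEquiv.ofLinear (P⁻¹).1.toLin' P.1.toLin' (by rw [← Matrix.toLin'_mul, Units.inv_mul, Matrix.toLin'_one])
      (by rw [← Matrix.toLin'_mul, Units.mul_inv, Matrix.toLin'_one])
  have hG : ∀ A v, G (act A v) = A.mulVec (G v) := by
    intro A v
    have h1 : e (act A v) = (P.1 * A * (P⁻¹).1).mulVec (e v) := by
      rw [← hP A, AlgEquiv.coe_ofBijective]
      show e (act A v) = (LinearMap.toMatrixAlgEquiv' ((LinearEquiv.conjAlgEquiv R e) (act A))).mulVec (e v)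
      rw [← Matrix.toLinAlgEquiv'_apply, Matrix.toLinAlgEquiv'_toMatrixAlgEquiv']
      simp [LinearEquiv.conjAlgEquiv_apply]
    show (P⁻¹).1.toLin' (e (act A v)) = A.mulVec ((P⁻¹).1.toLin' (e v))
    rw [h1, Matrix.toLin'_apply, Matrix.toLin'_apply, Matrix.mulVec_mulVec, Matrix.mulVec_mulVec,
      ← Matrix.mul_assoc, ← Matrix.mul_assoc, Units.inv_mul, Matrix.one_mul]
  let z : Fin n := ⟨0, hn⟩
  have hcorner : ∀ x : N, G (Pi.single z x) = Pi.single z (G (Pi.single z x) z) := by
    intro x
    have h1 : act (Matrix.single z z 1) (Pi.single z x) = Pi.single z x := by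
      ext i
      by_cases hi : i = z
      · subst hi; simp [hact, Matrix.single_apply]
      · simp [hact, Matrix.single_apply, hi, Ne.symm hi]
    conv_lhs => rw [← h1, hG, Matrix.single_mulVec]
    ext i; simp [Pi.single_apply, Function.update_apply]
  refine Module.Invertible.free_iff_linearEquiv.mpr ⟨LinearEquiv.ofBijective
    (LinearMap.proj z ∘ₗ G.toLinearMap ∘ₗ LinearMap.single R (fun _ => N) z) ⟨fun x y h => ?_, fun r => ?_⟩⟩
  · simp only [LinearMap.comp_apply, LinearMap.proj_apply, LinearEquiv.coe_coe, LinearMap.coe_single] at h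
    have h2 := hcorner x
    rw [h, ← hcorner y] at h2
    simpa using congrFun (G.injective h2) z
  · refine ⟨G.symm (Pi.single z r) z, ?_⟩
    have h1 : act (Matrix.single z z 1) (G.symm (Pi.single z r)) = G.symm (Pi.single z r) := G.injective (by
      rw [hG, G.apply_symm_apply, Matrix.single_mulVec]
      ext i; simp [Pi.single_apply, Function.update_apply])
    have h2 : act (Matrix.single z z 1) (G.symm (Pi.single z r)) = Pi.single z (G.symm (Pi.single z r) z) := by
      ext i
      by_cases hi : i = z
      · subst hi; simp [hact, Matrix.single_apply]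
      · simp [hact, Matrix.single_apply, hi, Ne.symm hi]
    simp only [LinearMap.comp_apply, LinearMap.proj_apply, LinearEquiv.coe_coe, LinearMap.coe_single]
    rw [← h2, h1, G.apply_symm_apply, Pi.single_eq_same]

end Groth.Agent.DivAlgT.MatAut
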